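import Groth.Agent.Lib.CocontTA28.WidePB
import Groth.Agent.Lib.SiteCoh.Pushforward
import Groth.Agent.Lib.ModSS29.TA

/-!
# Direct images along continuous functors whose inverse image preserves fibre products preserve total
acyclicity
-/

universe u

open CategoryTheory Limits Opposite Abelian

namespace Groth.Agent.Lib.CocontTA28.Main

open Groth.Agent.Lib.SiteCoh HomAcyclic NerveCx FreeSheaf NerveFunctor Pushforward

variable {C D : Type u} [SmallCategory C] [SmallCategory D]
  (J : GrothendieckTopology C) (K : GrothendieckTopology D) (u : D ⥤ C) [u.IsContinuous K J]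
  [∀ n : ℕ, PreservesLimitsOfShape (WidePullbackShape (Fin n)) (u.sheafPullback (Type u) K J)]

/-- The inverse image of the free nerve. -/
noncomputable def nervePullIso {K' K₀ : Sheaf K (Type u)} (f : K' ⟶ K₀) :
    ((pullAb J K u).mapHomologicalComplex _).obj (nerveP f) ≅ nerveP ((pullSet J K u).map f) :=
  eqToIso (Functor.congr_obj
      (AlgebraicTopology.map_alternatingFaceMapComplex (pullAb J K u)) _) ≪≫
    (AlgebraicTopology.alternatingFaceMapComplex (Sheaf J AddCommGrpCat.{u})).mapIso
      (Functor.associator _ _ _ ≪≫ Functor.isoWhiskerLeft _ (freePullIso J K u) ≪≫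
        (Functor.associator _ _ _).symm ≪≫
          Functor.isoWhiskerRight (cechNerveIso (pullSet J K u) f) (freeSh J))

variable {J K u}

/-- Direct image preserves total acyclicity. -/
theorem isTotallyAcyclic_push {F : Sheaf J AddCommGrpCat.{u}} (hF : CohCx.IsTotallyAcyclic F) :
    CohCx.IsTotallyAcyclic ((u.sheafPushforwardContinuous AddCommGrpCat.{u} K J).obj F) := by
  refine TotAcyclic.isTotallyAcyclic_of_exactHom fun {K' K₀} f _ q => ?_
  have := Functor.preservesEpimorphisms_of_adjunction (u.sheafAdjunctionContinuous (Type u) K J)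
  have : Epi ((pullSet J K u).map f) := Functor.map_epi _ _
  refine exactHom_of_adjunction (u.sheafAdjunctionContinuous AddCommGrpCat.{u} K J) ?_
  exact exactHom_of_iso (nervePullIso J K u f).symm
    (TotAcyclic.exactHom_of_isTotallyAcyclic _ q hF)

end Groth.Agent.Lib.CocontTA28.Main
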