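import Mathlib.CategoryTheory.Limits.Shapes.WidePullbacks
import Mathlib.CategoryTheory.Limits.Shapes.Pullback.IsPullback.Basic
import Mathlib.CategoryTheory.Limits.Preserves.Basic
import Mathlib.CategoryTheory.Limits.Preserves.Shapes.Pullbacks

/-!
# Functors preserving pullbacks preserve finite wide pullbacks
-/

universe v v' u u'

open CategoryTheory Limits

namespace Groth.Agent.Lib.CocontTA28.WidePB

variable {E : Type u} [Category.{v} E] {E' : Type u'} [Category.{v'} E'] [HasLimits E] (L : E ⥤ E')

/-- The restricted cospan. -/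
abbrev restr {n : ℕ} (F : WidePullbackShape (Fin (n + 1)) ⥤ E) : WidePullbackShape (Fin n) ⥤ E :=
  WidePullbackShape.wideCospan (F.obj none) (fun j : Fin n => F.obj (some j.castSucc))
    (fun j => F.map (WidePullbackShape.Hom.term (J := Fin (n + 1)) j.castSucc))

/-- The restriction of a cone. -/
abbrev restrCone {n : ℕ} {F : WidePullbackShape (Fin (n + 1)) ⥤ E} (c : Cone F) : Cone (restr F) :=
  WidePullbackShape.mkCone (c.π.app none) (fun j => c.π.app (some j.castSucc))
    (fun j => c.w (WidePullbackShape.Hom.term j.castSucc))

theorem preservesWidePullbacks [PreservesLimitsOfShape WalkingCospan L] :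
    ∀ n : ℕ, PreservesLimitsOfShape (WidePullbackShape (Fin n)) L
  | 0 => ⟨fun {F} => ⟨fun {c} hc => by
      let c₀ : Cone F :=
        { pt := F.obj none
          π := { app := fun j => match j with
                  | none => 𝟙 _
                  | some i => i.elim0
                 naturality := by
                  rintro (_ | i) (_ | j) f
                  · rw [Subsingleton.elim f (𝟙 _)]
                    simp
                  · exact j.elim0
                  · exact i.elim0
                  · exact i.elim0 } }
      have e₁ : c.π.app none ≫ hc.lift c₀ = 𝟙 _ := hc.hom_ext fun j => by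
        rcases j with _ | i
        · rw [Category.assoc, hc.fac]
          simp [c₀]
        · exact i.elim0
      exact ⟨{
        lift := fun s => s.π.app none ≫ L.map (hc.lift c₀)
        fac := fun s j => by
          rcases j with _ | i
          · simp only [Functor.mapCone_π_app, Category.assoc, ← L.map_comp, hc.fac]
            simp [c₀]
          · exact i.elim0
        uniq := fun s m hm => by
          rw [← hm none]
          exact ((Category.assoc _ _ _).trans ((congrArg (m ≫ ·) ((L.map_comp _ _).symm.trans
            ((congrArg L.map e₁).trans (L.map_id _)))).trans (Category.comp_id m))).symm }⟩⟩⟩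
  | n + 1 => by
    have ih := preservesWidePullbacks n
    refine ⟨fun {F} => ⟨fun {c} hc => ?_⟩⟩
    let P := limit.cone (restr F)
    let hP := limit.isLimit (restr F)
    let π0 : P.pt ⟶ F.obj none := P.π.app none
    let πs : ∀ j : Fin n, P.pt ⟶ F.obj (some j.castSucc) := fun j => P.π.app (some j)
    have πw : ∀ j : Fin n, πs j ≫ F.map (WidePullbackShape.Hom.term j.castSucc) = π0 :=
      fun j => P.w (WidePullbackShape.Hom.term j)
    have hext : ∀ {T : E} (u v : T ⟶ P.pt), u ≫ π0 = v ≫ π0 → (∀ j, u ≫ πs j = v ≫ πs j) → u = v :=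
      fun u v h₀ h => hP.hom_ext fun j => match j with
        | none => h₀
        | some j => h j
    let r : c.pt ⟶ P.pt := hP.lift (restrCone c)
    have hr0 : r ≫ π0 = c.π.app none := hP.fac _ none
    have hr : ∀ j : Fin n, r ≫ πs j = c.π.app (some j.castSucc) := fun j => hP.fac _ (some j)
    let z : F.obj (some (Fin.last n)) ⟶ F.obj none := F.map (WidePullbackShape.Hom.term (Fin.last n))
    have hsq : r ≫ π0 = c.π.app (some (Fin.last n)) ≫ z := by
      rw [hr0]
      exact (c.w _).symm
    let mk : ∀ {T : E} (p : T ⟶ P.pt) (q : T ⟶ F.obj (some (Fin.last n)))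
        (_ : p ≫ π0 = q ≫ z), Cone F := fun {T} p q w =>
      WidePullbackShape.mkCone (X := T) (p ≫ π0)
        (Fin.lastCases (motive := fun j => T ⟶ F.obj (some j)) q (fun j => p ≫ πs j))
        (Fin.lastCases (by simpa using w.symm) (fun j => by
          simp only [Fin.lastCases_castSucc, Category.assoc, πw]))
    let lft : ∀ {T : E} (p : T ⟶ P.pt) (q : T ⟶ F.obj (some (Fin.last n)))
        (_ : p ≫ π0 = q ≫ z), T ⟶ c.pt := fun p q w => hc.lift (mk p q w)
    have lft0 : ∀ {T : E} (p : T ⟶ P.pt) (q : T ⟶ F.obj (some (Fin.last n))) (w),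
        lft p q w ≫ c.π.app none = p ≫ π0 := fun p q w => hc.fac (mk p q w) none
    have lftl : ∀ {T : E} (p : T ⟶ P.pt) (q : T ⟶ F.obj (some (Fin.last n))) (w),
        lft p q w ≫ c.π.app (some (Fin.last n)) = q := fun p q w =>
      (hc.fac (mk p q w) (some (Fin.last n))).trans (by simp [mk] <;> rfl)
    have lfts : ∀ {T : E} (p : T ⟶ P.pt) (q : T ⟶ F.obj (some (Fin.last n))) (w) (j : Fin n),
        lft p q w ≫ c.π.app (some j.castSucc) = p ≫ πs j := fun p q w j =>
      (hc.fac (mk p q w) (some j.castSucc)).trans (by simp [mk] <;> rfl)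
    have hpb : IsPullback r (c.π.app (some (Fin.last n))) π0 z := by
      refine IsPullback.of_isLimit' ⟨hsq⟩ (PullbackCone.IsLimit.mk hsq
        (fun s => lft s.fst s.snd s.condition) (fun s => ?_) (fun s => lftl s.fst s.snd s.condition) ?_)
      · refine hext _ _ ?_ (fun j => ?_)
        · rw [Category.assoc, hr0, lft0 _ _ s.condition]
        · rw [Category.assoc, hr, lfts _ _ s.condition]
      · intro s m h₁ h₂
        refine hc.hom_ext fun j => ?_
        rcases j with _ | j
        · rw [lft0 _ _ s.condition, ← hr0, ← Category.assoc, h₁]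
        · induction j using Fin.lastCases with
          | last => rw [lftl _ _ s.condition, h₂]
          | cast j => rw [lfts _ _ s.condition, ← hr, ← Category.assoc, h₁]
    have hpb' := hpb.map L
    have hLP := isLimitOfPreserves L hP
    have hLext : ∀ {T : E'} (u v : T ⟶ L.obj P.pt), u ≫ L.map π0 = v ≫ L.map π0 →
        (∀ j, u ≫ L.map (πs j) = v ≫ L.map (πs j)) → u = v :=
      fun u v h₀ h => hLP.hom_ext fun j => match j with
        | none => h₀
        | some j => h j
    let sP : ∀ s : Cone (F ⋙ L), Cone (restr F ⋙ L) := fun s =>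
      WidePullbackShape.mkCone (X := s.pt) (s.π.app none) (fun j => s.π.app (some j.castSucc))
        (fun j => s.w (WidePullbackShape.Hom.term j.castSucc))
    let l : ∀ s : Cone (F ⋙ L), s.pt ⟶ L.obj P.pt := fun s => hLP.lift (sP s)
    have hl0 : ∀ s, l s ≫ L.map π0 = s.π.app none := fun s => hLP.fac (sP s) none
    have hl : ∀ s (j : Fin n), l s ≫ L.map (πs j) = s.π.app (some j.castSucc) :=
      fun s j => hLP.fac (sP s) (some j)
    have hw : ∀ s : Cone (F ⋙ L),
        l s ≫ L.map π0 = s.π.app (some (Fin.last n)) ≫ L.map z := fun s =>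
      (hl0 s).trans (s.w (WidePullbackShape.Hom.term (Fin.last n))).symm
    refine ⟨{
      lift := fun s => hpb'.lift _ _ (hw s)
      fac := fun s j => ?_
      uniq := fun s m hm => ?_ }⟩
    · rcases j with _ | j
      · simp only [Functor.mapCone_π_app, ← hr0, L.map_comp, IsPullback.lift_fst_assoc, hl0]
      · induction j using Fin.lastCases with
        | last => exact hpb'.lift_snd _ _ (hw s)
        | cast j =>
          simp only [Functor.mapCone_π_app, ← hr, L.map_comp, IsPullback.lift_fst_assoc, hl]
    · refine hpb'.hom_ext ?_ ((hm _).trans (hpb'.lift_snd _ _ (hw s)).symm)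
      rw [IsPullback.lift_fst]
      refine hLext _ _ ?_ (fun j => ?_)
      · rw [hl0, Category.assoc, ← L.map_comp, hr0]
        exact hm none
      · rw [hl, Category.assoc, ← L.map_comp, hr]
        exact hm (some j.castSucc)

end Groth.Agent.Lib.CocontTA28.WidePB
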